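import Groth.Agent.PullFF.Basic
import Groth.Agent.QuotDef.Rho
import Groth.Agent.QCohLib.Basic

/-!
# Descent of morphisms of finite locally free modules along `f` with `O_Y → f_*O_X ⇉ g_*O` exact
-/

set_option autoImplicit false
set_option linter.style.haveILetI false
set_option backward.isDefEq.respectTransparency false
universe u
open CategoryTheory CategoryTheory.Limits Opposite TopologicalSpace AlgebraicGeometry

namespace Groth.Agent.PullFF

open ModGroth ModGroth.Stalk ModGroth.LocBasis QuotDef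

variable {X Y : Scheme.{u}}

theorem hom_eq_zero_of_local {A B : Y.Modules} (φ : A ⟶ B)
    (h : ∀ y : Y, ∃ U : Y.Opens, y ∈ U ∧ ∀ W ≤ U, ∀ t : Γ(A, W), φ.app W t = 0) : φ = 0 := by
  refine Scheme.Modules.hom_ext _ _ fun V => ?_
  ext t
  refine QCohLib.section_ext _ _ fun x hx => ?_
  obtain ⟨U, hxU, hU⟩ := h x
  change B.presheaf.germ V x hx (φ.app V t) = B.presheaf.germ V x hx 0
  rw [← TopCat.Presheaf.germ_res_apply B.presheaf (homOfLE (inf_le_left : V ⊓ U ≤ V)) x ⟨hx, hxU⟩ (φ.app V t),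
    map_zero]
  have hn : B.presheaf.map (homOfLE (inf_le_left : V ⊓ U ≤ V)).op (φ.app V t) = φ.app (V ⊓ U) (A.presheaf.map (homOfLE inf_le_left).op t) :=
    (ConcreteCategory.congr_hom (φ.mapPresheaf.naturality (homOfLE (inf_le_left : V ⊓ U ≤ V)).op) t).symm
  rw [hn, hU _ inf_le_right, map_zero]

variable (f : X ⟶ Y)

theorem injective_pSec {E : Y.Modules} {U : Y.Opens} {n : ℕ} {e : Fin n → (toPres.obj E).obj (op U)}
    (he : IsBasis (O := Y.sheaf) E e) {W : Y.Opens} (hW : W ≤ U) (hf : Function.Injective (f.app W)) :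
    Function.Injective (fun m => pSec f E (U := W) m) := by
  intro m m' h
  obtain ⟨c, rfl⟩ := (he W (homOfLE hW)).2 m
  obtain ⟨c', rfl⟩ := (he W (homOfLE hW)).2 m'
  dsimp only at h
  rw [Fintype.linearCombination_apply, Fintype.linearCombination_apply, pSec_sum, pSec_sum] at h
  suffices c = c' by rw [this]
  refine funext fun i => hf (congrFun ((isBasis_pSec f he (f ⁻¹ᵁ W) ((Opens.map f.base).map (homOfLE hW))).1
    (a₁ := fun i => (f.app W).hom (c i)) (a₂ := fun i => (f.app W).hom (c' i)) ?_) i)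
  rw [Fintype.linearCombination_apply, Fintype.linearCombination_apply]
  refine Eq.trans ?_ (h.trans ?_) <;>
    refine Finset.sum_congr rfl fun i _ => congrArg (_ • ·) ?_
  · exact (pSec_res f E (homOfLE hW) (e i)).symm
  · exact pSec_res f E (homOfLE hW) (e i)

theorem mono_unit (hinj : ∀ U : Y.Opens, Function.Injective (f.app U)) {M : Y.Modules}
    (hM : FlatMod.IsFinLocFree M) : Mono ((Scheme.Modules.pullbackPushforwardAdjunction f).unit.app M) := by
  refine Preadditive.mono_of_cancel_zero _ fun {K} g hg => hom_eq_zero_of_local g fun y => ?_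
  obtain ⟨U, n, e, hy, he⟩ := LocBasis.exists_isBasis hM y
  refine ⟨U, hy, fun W hW t => injective_pSec f he hW (hinj W) ?_⟩
  refine Eq.trans ?_ (map_zero ((pullSec f M).app (op W)).hom).symm
  exact congrArg (fun ψ : K ⟶ _ => ψ.app W t) hg

section Comp

variable {Z : Scheme.{u}} (p : Z ⟶ X)

/-- Pullback of a function, seen over the preimage along the composite. -/
noncomputable def pApp (W : Y.Opens) (a : Γ(X, f ⁻¹ᵁ W)) : Γ(Z, (p ≫ f) ⁻¹ᵁ W) := p.app (f ⁻¹ᵁ W) a

theorem comp_inv_unit (N : Y.Modules) (W : Y.Opens) (t : Γ(N, W)) :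
    ((Scheme.Modules.pullbackComp p f).inv.app N).app ((p ≫ f) ⁻¹ᵁ W) (unitSect (p ≫ f) N W t) =
      unitSect p ((Scheme.Modules.pullback f).obj N) (f ⁻¹ᵁ W) (unitSect f N W t) := by
  rw [← pullbackComp_unit p f N W t]
  exact congrArg (fun ψ => Scheme.Modules.Hom.app ψ ((p ≫ f) ⁻¹ᵁ W)
      (unitSect p ((Scheme.Modules.pullback f).obj N) (f ⁻¹ᵁ W) (unitSect f N W t)))
    ((Scheme.Modules.pullbackComp p f).hom_inv_id_app N)

theorem congr_unit {g g' : Z ⟶ Y} (h : g = g') (N : Y.Modules) (W : Y.Opens) (hle : g ⁻¹ᵁ W ≤ g' ⁻¹ᵁ W)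
    (t : Γ(N, W)) :
    ((Scheme.Modules.pullbackCongr h).hom.app N).app (g ⁻¹ᵁ W) (unitSect g N W t) =
      ((Scheme.Modules.pullback g').obj N).presheaf.map (homOfLE hle).op (unitSect g' N W t) := by
  subst h
  simp only [Scheme.Modules.pullbackCongr, eqToIso_refl, Iso.refl_hom, NatTrans.id_app]
  rw [show (homOfLE hle).op = 𝟙 _ from Subsingleton.elim _ _, CategoryTheory.Functor.map_id]
  rfl

/-- Transport of a morphism through a composition, on pulled back sections. -/
theorem transport_unit {L M : Y.Modules} (φ : (Scheme.Modules.pullback f).obj L ⟶ (Scheme.Modules.pullback f).obj M)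
    (W : Y.Opens) (t : Γ(L, W)) :
    ((Scheme.Modules.pullbackComp p f).hom.app M).app ((p ≫ f) ⁻¹ᵁ W)
      (((Scheme.Modules.pullback p).map φ).app ((p ≫ f) ⁻¹ᵁ W)
        (((Scheme.Modules.pullbackComp p f).inv.app L).app ((p ≫ f) ⁻¹ᵁ W) (unitSect (p ≫ f) L W t))) =
      ((Scheme.Modules.pullbackComp p f).hom.app M).app ((p ≫ f) ⁻¹ᵁ W)
        (unitSect p ((Scheme.Modules.pullback f).obj M) (f ⁻¹ᵁ W) (φ.app (f ⁻¹ᵁ W) (unitSect f L W t))) := by
  rw [comp_inv_unit]
  exact congrArg (((Scheme.Modules.pullbackComp p f).hom.app M).app ((p ≫ f) ⁻¹ᵁ W))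
    (congrArg (fun ψ : (Scheme.Modules.pullback f).obj L ⟶
        (Scheme.Modules.pushforward p).obj ((Scheme.Modules.pullback p).obj ((Scheme.Modules.pullback f).obj M)) =>
      ψ.app (f ⁻¹ᵁ W) (unitSect f L W t))
      ((Scheme.Modules.pullbackPushforwardAdjunction p).unit_naturality φ))

/-- The transported image of a combination of pulled back sections. -/
theorem comp_sum {M : Y.Modules} (W : Y.Opens) {n : ℕ} (a : Fin n → Γ(X, f ⁻¹ᵁ W)) (m : Fin n → Γ(M, W)) :
    ((Scheme.Modules.pullbackComp p f).hom.app M).app ((p ≫ f) ⁻¹ᵁ W)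
      (unitSect p ((Scheme.Modules.pullback f).obj M) (f ⁻¹ᵁ W) (∑ i, a i • unitSect f M W (m i))) =
      ∑ i, pApp f p W (a i) • unitSect (p ≫ f) M W (m i) := by
  let Φ : Γ((Scheme.Modules.pullback f).obj M, f ⁻¹ᵁ W) →+ Γ((Scheme.Modules.pullback (p ≫ f)).obj M, (p ≫ f) ⁻¹ᵁ W) :=
    AddMonoidHom.mk' (fun s => ((Scheme.Modules.pullbackComp p f).hom.app M).app ((p ≫ f) ⁻¹ᵁ W)
      (unitSect p ((Scheme.Modules.pullback f).obj M) (f ⁻¹ᵁ W) s)) (fun a b => by
        refine (congrArg _ (pSec_add p ((Scheme.Modules.pullback f).obj M) a b)).trans ?_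
        exact map_add (((Scheme.Modules.pullbackComp p f).hom.app M).app ((p ≫ f) ⁻¹ᵁ W)).hom _ _)
  refine (map_sum Φ _ _).trans (Finset.sum_congr rfl fun i _ => ?_)
  refine (congrArg (((Scheme.Modules.pullbackComp p f).hom.app M).app ((p ≫ f) ⁻¹ᵁ W))
    (pSec_smul p ((Scheme.Modules.pullback f).obj M) (U := f ⁻¹ᵁ W) (a i) _)).trans ?_
  refine (((Scheme.Modules.pullbackComp p f).hom.app M).app_smul _ _).trans ?_
  exact congrArg (pApp f p W (a i) • ·) (pullbackComp_unit p f M W (m i))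

end Comp

theorem existsUnique_descend
    (hU : ∀ U : Y.Opens, (pullback.fst f f) ⁻¹ᵁ (f ⁻¹ᵁ U) = (pullback.snd f f) ⁻¹ᵁ (f ⁻¹ᵁ U))
    (hinj : ∀ U : Y.Opens, Function.Injective (f.app U))
    (hex : ∀ (U : Y.Opens) (a : Γ(X, f ⁻¹ᵁ U)),
      (pullback.fst f f).app (f ⁻¹ᵁ U) a =
        ((pullback f f).presheaf.map (eqToHom (hU U)).op) ((pullback.snd f f).app (f ⁻¹ᵁ U) a) →
      a ∈ Set.range (f.app U))
    (L M : Y.Modules) (hM : FlatMod.IsFinLocFree M)
    (φ : (Scheme.Modules.pullback f).obj L ⟶ (Scheme.Modules.pullback f).obj M)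
    (hφ : ((Scheme.Modules.pullbackComp (pullback.fst f f) f).app L).inv ≫
        (Scheme.Modules.pullback (pullback.fst f f)).map φ ≫ ((Scheme.Modules.pullbackComp (pullback.fst f f) f).app M).hom =
      ((Scheme.Modules.pullbackCongr (pullback.condition (f := f) (g := f))).app L).hom ≫
        ((Scheme.Modules.pullbackComp (pullback.snd f f) f).app L).inv ≫
        (Scheme.Modules.pullback (pullback.snd f f)).map φ ≫ ((Scheme.Modules.pullbackComp (pullback.snd f f) f).app M).hom ≫
        ((Scheme.Modules.pullbackCongr (pullback.condition (f := f) (g := f))).app M).inv) :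
    ∃! ψ : L ⟶ M, (Scheme.Modules.pullback f).map ψ = φ := by
  let adj := Scheme.Modules.pullbackPushforwardAdjunction f
  let p₁ := pullback.fst f f
  let p₂ := pullback.snd f f
  let χ : L ⟶ (Scheme.Modules.pushforward f).obj ((Scheme.Modules.pullback f).obj M) := adj.homEquiv _ _ φ
  haveI hmono : Mono (adj.unit.app M) := mono_unit f hinj hM
  have hloc : χ ≫ cokernel.π (adj.unit.app M) = 0 := by
    refine hom_eq_zero_of_local _ fun y => ?_
    obtain ⟨U, n, e, hy, he⟩ := LocBasis.exists_isBasis hM y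
    refine ⟨U, hy, fun W hW t => ?_⟩
    let e' : Fin n → Γ(M, W) := fun i => rs (toPres.obj M) (homOfLE hW).op (e i)
    obtain ⟨a, ha⟩ := (isBasis_pSec f he (f ⁻¹ᵁ W) ((Opens.map f.base).map (homOfLE hW))).2
      (φ.app (f ⁻¹ᵁ W) (unitSect f L W t))
    have ha' : φ.app (f ⁻¹ᵁ W) (unitSect f L W t) =
        ∑ i, (show Γ(X, f ⁻¹ᵁ W) from a i) • unitSect f M W (e' i) := by
      rw [← ha, Fintype.linearCombination_apply]
      exact Finset.sum_congr rfl fun i _ => congrArg (_ • ·) (pSec_res f M (homOfLE hW) (e i)).symm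
    have hle : (p₁ ≫ f) ⁻¹ᵁ W ≤ (p₂ ≫ f) ⁻¹ᵁ W := (hU W).le
    -- evaluate the descent condition
    have hφ2 : (((Scheme.Modules.pullbackComp p₁ f).app L).inv ≫ (Scheme.Modules.pullback p₁).map φ ≫
        ((Scheme.Modules.pullbackComp p₁ f).app M).hom) ≫
          ((Scheme.Modules.pullbackCongr (pullback.condition (f := f) (g := f))).app M).hom =
        ((Scheme.Modules.pullbackCongr (pullback.condition (f := f) (g := f))).app L).hom ≫
          (((Scheme.Modules.pullbackComp p₂ f).app L).inv ≫ (Scheme.Modules.pullback p₂).map φ ≫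
            ((Scheme.Modules.pullbackComp p₂ f).app M).hom) := by
      simp only [p₁, p₂, hφ, Category.assoc, Iso.inv_hom_id, Category.comp_id]
    have key := congrArg (fun ψ => Scheme.Modules.Hom.app ψ ((p₁ ≫ f) ⁻¹ᵁ W) (unitSect (p₁ ≫ f) L W t)) hφ2
    let G := (Scheme.Modules.pullback (p₂ ≫ f)).obj M
    have hl : Scheme.Modules.Hom.app ((((Scheme.Modules.pullbackComp p₁ f).app L).inv ≫
        (Scheme.Modules.pullback p₁).map φ ≫ ((Scheme.Modules.pullbackComp p₁ f).app M).hom) ≫
          ((Scheme.Modules.pullbackCongr (pullback.condition (f := f) (g := f))).app M).hom)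
        ((p₁ ≫ f) ⁻¹ᵁ W) (unitSect (p₁ ≫ f) L W t) =
        ∑ i, pApp f p₁ W (a i) •
          G.presheaf.map (homOfLE hle).op (unitSect (p₂ ≫ f) M W (e' i)) := by
      refine (congrArg (((Scheme.Modules.pullbackCongr (pullback.condition (f := f) (g := f))).hom.app M).app
        ((p₁ ≫ f) ⁻¹ᵁ W)) ((transport_unit f p₁ φ W t).trans ((congrArg _ (congrArg _ ha')).trans
          (comp_sum f p₁ W _ e')))).trans ?_
      refine (map_sum (((Scheme.Modules.pullbackCongr (pullback.condition (f := f) (g := f))).hom.app M).app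
        ((p₁ ≫ f) ⁻¹ᵁ W)).hom _ _).trans (Finset.sum_congr rfl fun i _ => ?_)
      refine (((Scheme.Modules.pullbackCongr (pullback.condition (f := f) (g := f))).hom.app M).app_smul _ _).trans ?_
      exact congrArg (_ • ·) (congr_unit _ M W hle (e' i))
    have hr : Scheme.Modules.Hom.app (((Scheme.Modules.pullbackCongr (pullback.condition (f := f) (g := f))).app L).hom ≫
          (((Scheme.Modules.pullbackComp p₂ f).app L).inv ≫ (Scheme.Modules.pullback p₂).map φ ≫
            ((Scheme.Modules.pullbackComp p₂ f).app M).hom))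
        ((p₁ ≫ f) ⁻¹ᵁ W) (unitSect (p₁ ≫ f) L W t) =
        ∑ i, (pullback f f).presheaf.map (homOfLE hle).op
            (pApp f p₂ W (a i)) •
          G.presheaf.map (homOfLE hle).op (unitSect (p₂ ≫ f) M W (e' i)) := by
      let X2 := ((Scheme.Modules.pullbackComp p₂ f).app L).inv ≫ (Scheme.Modules.pullback p₂).map φ ≫
        ((Scheme.Modules.pullbackComp p₂ f).app M).hom
      refine (congrArg (X2.app ((p₁ ≫ f) ⁻¹ᵁ W)) (congr_unit _ L W hle t)).trans ?_
      refine (ConcreteCategory.congr_hom (X2.mapPresheaf.naturality (homOfLE hle).op)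
        (unitSect (p₂ ≫ f) L W t)).trans ?_
      refine (congrArg (G.presheaf.map (homOfLE hle).op) ((transport_unit f p₂ φ W t).trans
        ((congrArg _ (congrArg _ ha')).trans (comp_sum f p₂ W _ e')))).trans ?_
      refine (map_sum (G.presheaf.map (homOfLE hle).op).hom _ _).trans (Finset.sum_congr rfl fun i _ => ?_)
      exact Scheme.Modules.map_smul G (homOfLE hle) _ _
    have hsum := hl.symm.trans (key.trans hr)
    have hW₁ : (p₁ ≫ f) ⁻¹ᵁ W ≤ (p₂ ≫ f) ⁻¹ᵁ U := hle.trans fun z hz => hW hz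
    have hb := (isBasis_pSec (p₂ ≫ f) he ((p₁ ≫ f) ⁻¹ᵁ W) (homOfLE hW₁)).1
      (a₁ := fun i => (p₁.app (f ⁻¹ᵁ W)).hom (a i))
      (a₂ := fun i => ((pullback f f).presheaf.map (homOfLE hle).op).hom (p₂.app (f ⁻¹ᵁ W) (a i))) (by
        rw [Fintype.linearCombination_apply, Fintype.linearCombination_apply]
        have hres : ∀ i, G.presheaf.map (homOfLE hle).op (unitSect (p₂ ≫ f) M W (e' i)) =
            rs (toPres.obj G) (homOfLE hW₁).op (pSec (p₂ ≫ f) M (e i)) := fun i =>
          (congrArg (G.presheaf.map (homOfLE hle).op) (pSec_res (p₂ ≫ f) M (homOfLE hW) (e i))).trans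
            (QCohLib.map_map G _ _ _)
        rw [Finset.sum_congr rfl fun i _ => congrArg (_ • ·) (hres i),
          Finset.sum_congr rfl fun i _ => congrArg (_ • ·) (hres i)] at hsum
        exact hsum)
    have hc : ∀ i, (show Γ(X, f ⁻¹ᵁ W) from a i) ∈ Set.range (f.app W) := fun i => by
      refine hex W (a i) ?_
      rw [show (eqToHom (hU W)).op = (homOfLE hle).op from Subsingleton.elim _ _]
      exact congrFun hb i
    choose c hc using hc
    have hχ : χ.app W t = (adj.unit.app M).app W (∑ i, c i • e' i) := by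
      refine Eq.trans ?_ (pSec_sum f M (U := W) c e').symm
      refine Eq.trans ?_ (ha'.trans (Finset.sum_congr rfl fun i _ => congrArg (· • _) (hc i).symm))
      exact congrArg (fun ψ : L ⟶ _ => ψ.app W t) (adj.homEquiv_unit _ _ φ)
    refine (congrArg ((cokernel.π (adj.unit.app M)).app W) hχ).trans ?_
    exact congrArg (fun ψ : M ⟶ cokernel (adj.unit.app M) => ψ.app W (∑ i, c i • e' i))
      (cokernel.condition (adj.unit.app M))
  have hψ : Abelian.monoLift (adj.unit.app M) χ hloc ≫ adj.unit.app M = χ := Abelian.monoLift_comp _ _ _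
  have key : ∀ ψ : L ⟶ M, adj.homEquiv _ _ ((Scheme.Modules.pullback f).map ψ) = ψ ≫ adj.unit.app M := fun ψ => by
    rw [Adjunction.homEquiv_unit]
    exact (adj.unit_naturality ψ).trans rfl
  refine ⟨Abelian.monoLift (adj.unit.app M) χ hloc, (adj.homEquiv _ _).injective ((key _).trans hψ), fun ψ' h => ?_⟩
  rw [← cancel_mono (adj.unit.app M), hψ, ← key, h]

end Groth.Agent.PullFF
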